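import Cfsg.Agent.Mrg.Omega.Lie.End.KSideMain
import Cfsg.Agent.Mrg.Omega.ML.LieRow.Bld

section


/-!
# Curtis–Richen for modules which are irreducible under the family and outer operators (helper818)

`F : Fam ..` a family of commuting root group data in `Y` with a common torus, `Y = ⟨T, all root groups⟩`,
`ρ : Y →* End V`, `𝓡` a group of automorphisms of the space `V` which are semilinear with respect to automorphisms of `Y`
normalising `U`, `V` irreducible under `ρ(Y)` and `𝓡` (so `V` is a semisimple `Y`-module, but neither simple nor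
homogeneous).

* `Fam.fx_le_hecke` : a subspace `0 ≠ Z ≤ V^U`, invariant under `T`, `𝓡` and all Hecke operators `T_i`, is `V^U`;
* `Fam.fx_le_map` : **if `φ : V' → V` is equivariant and `φ(V'^U) ≠ 0`, then `φ(V'^U) = V^U`.**
-/

set_option autoImplicit false
set_option linter.unusedSectionVars false

namespace Cfsg.Agent.Omega.CR

open CoxeterSystem Cfsg.Agent.ChevalleyStructure.CoxeterGeom Cfsg.Agent.Tits.Roots Cfsg.Agent.Tits.Core
  Cfsg.Agent.Tits.Exchange Cfsg.Agent.Nodes.Reps Cfsg.Agent.Nodes.BNOf Cfsg.Agent.Nodes.StabComb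
  Cfsg.Agent.Nodes.Bruhat Cfsg.Agent.Nodes.OppDec Cfsg.Agent.Nodes.LeviDec Cfsg.Agent.KFacts.RgdOpp

section One

variable {I W Y : Type*} [Fintype I] [DecidableEq I] [Group W] [Group Y] {M : CoxeterMatrix I}
  {cs : CoxeterSystem M W} {A : I → I → ℤ} {h : IsCartan M A} {p : ℕ} {T : Subgroup Y} {n : I → Y}
  {X : (I → ℤ) → Subgroup Y}

variable (R : RGD cs h p T n X)

include R

variable {k V : Type*} [Field k] [AddCommGroup V] [Module k V] (ρ : Y →* Module.End k V) [Finite Y]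

/-- `T_w` preserves a `T`- and `T_i`-invariant subspace. -/
theorem Tk_mem [Finite W] {Z : Submodule k V} (hT : Ivt ρ T Z) (hc : ∀ i, ∀ v ∈ Z, Ti n X ρ i v ∈ Z) {w : W} {g : Y}
    (hg : Rp cs R.nsys w g) {v : V} (hv : v ∈ Z) : Tk cs h X ρ w g v ∈ Z := by
  induction hn : cs.length w using Nat.strong_induction_on generalizing w g with
  | _ N' ih =>
  by_cases hw1 : w = 1
  · subst hw1
    rw [Tk_apply, RGD.inv_one_eq, Sup_empty, sg_bot]
    exact hT g hg.mem_of_one v hv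
  · obtain ⟨i, hi⟩ : ∃ i, cs.IsLeftDescent w i := cs.exists_leftDescent_of_ne_one hw1
    have hlt : cs.length (cs.simple i * w) < cs.length w := hi
    have hneg : rep cs h w⁻¹ (sr i) ≤ 0 := by
      refine nonpos_of_lt cs h w⁻¹ i ?_
      rw [cs.length_inv, ← cs.length_inv (w⁻¹ * cs.simple i), mul_inv_rev, inv_inv, cs.inv_simple]
      exact hlt
    have hww : cs.simple i * (cs.simple i * w) = w := by
      rw [← mul_assoc, cs.simple_mul_simple_self, one_mul]
    have hg' : Rp cs R.nsys (cs.simple i * w) ((n i)⁻¹ * g) := by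
      have := (rp_simple cs R.nsys i).inv.mul hg
      rwa [cs.inv_simple] at this
    have h2 : Ti n X ρ i (Tk cs h X ρ (cs.simple i * w) ((n i)⁻¹ * g) v) = Tk cs h X ρ w g v := by
      have h3 := Tk_up R ρ (w := cs.simple i * w) (i := i) (by
        rw [rep_simple_mul_inv]; exact neg_nonneg.2 hneg) ((n i)⁻¹ * g) v
      rwa [hww, mul_inv_cancel_left] at h3
    rw [← h2]
    exact hc i _ (ih _ (hn ▸ hlt) hg' rfl)

/-- `exists_simul` inside a `T`- and `T_i`-invariant subspace. -/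
theorem exists_simul_le [Finite W] [Fact p.Prime] [CharP k p] {N Z : Submodule k V} (hN : Simp ρ T N)
    (hU : N ≤ fx ρ (RGD.Sup X (RGD.Pos cs h))) (hNZ : N ≤ Z) (hT : Ivt ρ T Z)
    (hc : ∀ i, ∀ v ∈ Z, Ti n X ρ i v ∈ Z) : ∃ w : W, ∃ g ∈ Subgroup.closure (Set.range n),
      Simp ρ T (N.map (Tk cs h X ρ w g)) ∧ N.map (Tk cs h X ρ w g) ≤ fx ρ (RGD.Sup X (RGD.Pos cs h)) ∧
      (∀ i, ∀ v ∈ N.map (Tk cs h X ρ w g), Ti n X ρ i v ∈ N.map (Tk cs h X ρ w g)) ∧
      N.map (Tk cs h X ρ w g) ≤ Z := by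
  classical
  let S : Set W := {w | ∃ g ∈ Subgroup.closure (Set.range n), Rp cs R.nsys w g ∧ N.map (Tk cs h X ρ w g) ≠ ⊥}
  have hS : S.Nonempty := by
    refine ⟨1, 1, one_mem _, rp_one, ?_⟩
    have h2 : Tk cs h X ρ 1 1 = 1 := by
      ext v
      rw [Tk_apply, RGD.inv_one_eq, Sup_empty, sg_bot, rho_one]; rfl
    rw [h2]
    intro h3
    apply hN.ne
    rw [eq_bot_iff, ← h3]
    intro v hv
    exact ⟨v, hv, rfl⟩
  obtain ⟨w, ⟨g, hgc, hg, hne⟩, hmax⟩ := Set.exists_max_image S (fun w => cs.length w) (Set.toFinite S) hS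
  obtain ⟨h5, h6⟩ := Tk_wt R ρ hN hU hg hne
  refine ⟨w, g, hgc, h5, h6, ?_, ?_⟩
  swap
  · rintro _ ⟨v, hv, rfl⟩
    exact Tk_mem R ρ hT hc hg (hNZ hv)
  intro i
  have hni : n i ∈ Subgroup.closure (Set.range n) := Subgroup.subset_closure ⟨i, rfl⟩
  have hww : cs.simple i * (cs.simple i * w) = w := by
    rw [← mul_assoc, cs.simple_mul_simple_self, one_mul]
  rcases ((isRoot_sr cs h i).act w⁻¹).pos_or_neg with hpos | hneg
  · rintro _ ⟨v, hv, rfl⟩
    have h7 : Ti n X ρ i (Tk cs h X ρ w g v) = 0 := by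
      by_contra hc
      have h1 := hmax (cs.simple i * w) ⟨_, mul_mem hni hgc, (rp_simple cs R.nsys i).mul hg, fun h8 => hc (by
        rw [Tk_up R ρ hpos, ← Submodule.mem_bot k, ← h8]
        exact ⟨v, hv, rfl⟩)⟩
      have h2 := (lt_iff' cs h w⁻¹ i).2 hpos
      rw [cs.length_inv, ← cs.length_inv (w⁻¹ * cs.simple i), mul_inv_rev, inv_inv, cs.inv_simple] at h2
      exact absurd h1 (not_le.2 h2)
    rw [h7]
    exact Submodule.zero_mem _
  · have hg' : Rp cs R.nsys (cs.simple i * w) ((n i)⁻¹ * g) := by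
      have := (rp_simple cs R.nsys i).inv.mul hg
      rwa [cs.inv_simple] at this
    have h2 : ∀ v, Tk cs h X ρ w g v = Ti n X ρ i (Tk cs h X ρ (cs.simple i * w) ((n i)⁻¹ * g) v) := by
      intro v
      have h3 := Tk_up R ρ (w := cs.simple i * w) (i := i) (by
        rw [rep_simple_mul_inv]; exact neg_nonneg.2 hneg) ((n i)⁻¹ * g) v
      rw [hww, mul_inv_cancel_left] at h3
      exact h3.symm
    have h4 : N.map (Tk cs h X ρ (cs.simple i * w) ((n i)⁻¹ * g)) ≠ ⊥ := by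
      intro h4
      apply hne
      rw [eq_bot_iff]
      rintro _ ⟨v, hv, rfl⟩
      have h8 : Tk cs h X ρ (cs.simple i * w) ((n i)⁻¹ * g) v ∈
          N.map (Tk cs h X ρ (cs.simple i * w) ((n i)⁻¹ * g)) := ⟨v, hv, rfl⟩
      rw [h4, Submodule.mem_bot] at h8
      rw [h2, h8, map_zero]
      exact Submodule.zero_mem _
    obtain ⟨h8, h9⟩ := Tk_wt R ρ hN hU hg' h4
    rintro _ ⟨v, hv, rfl⟩
    rw [h2]
    obtain ⟨v', ⟨v'', hv'', rfl⟩, hv'⟩ := Ti_sq R ρ h8.inv h9 i (v := Tk cs h X ρ (cs.simple i * w) ((n i)⁻¹ * g) v)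
      ⟨v, hv, rfl⟩
    rw [hv', ← h2]
    exact ⟨_, hv'', rfl⟩

end One

variable {κ : Type*} [Fintype κ] {I W : κ → Type*} {Y : Type*} [∀ l, Fintype (I l)] [∀ l, DecidableEq (I l)]
  [∀ l, Group (W l)] [Group Y] {M : ∀ l, CoxeterMatrix (I l)}
  {cs : ∀ l, CoxeterSystem (M l) (W l)} {A : ∀ l, I l → I l → ℤ} {h : ∀ l, IsCartan (M l) (A l)} {p : ℕ}
  {T : Subgroup Y} {n : ∀ l, I l → Y} {X : ∀ l, (I l → ℤ) → Subgroup Y} {C : κ → Subgroup Y}

variable {k V : Type*} [Field k] [AddCommGroup V] [Module k V] (ρ : Y →* Module.End k V)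

/-- `θ` is semilinear with respect to an automorphism of `Y` which normalises `U`. -/
def Otr (U : Subgroup Y) (ρ : Y →* Module.End k V) (θ : V ≃ₗ[k] V) : Prop :=
  ∃ σ : Y ≃* Y, (∀ g v, θ (ρ g v) = ρ (σ g) (θ v)) ∧ ∀ u, u ∈ U ↔ σ u ∈ U

/-- the quotient representation -/
def qRep (L : Submodule k V) (hL : Ivt ρ ⊤ L) : Y →* Module.End k (V ⧸ L) where
  toFun g := L.mapQ L (ρ g) fun v hv => hL g trivial v hv
  map_one' := by
    refine LinearMap.ext fun v => ?_
    obtain ⟨v, rfl⟩ := L.mkQ_surjective v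
    change L.mkQ (ρ 1 v) = L.mkQ v
    rw [rho_one]
  map_mul' a b := by
    refine LinearMap.ext fun v => ?_
    obtain ⟨v, rfl⟩ := L.mkQ_surjective v
    change L.mkQ (ρ (a * b) v) = L.mkQ (ρ a (ρ b v))
    rw [rho_mul]

theorem qRep_apply (L : Submodule k V) (hL : Ivt ρ ⊤ L) (g : Y) (v : V) :
    qRep ρ L hL g (L.mkQ v) = L.mkQ (ρ g v) := rfl

/-- a maximal invariant subspace -/
structure Mxi (ρ : Y →* Module.End k V) (L : Submodule k V) : Prop where
  inv : Ivt ρ ⊤ L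
  ne : L ≠ ⊤
  max : ∀ L', Ivt ρ ⊤ L' → L ≤ L' → L' = L ∨ L' = ⊤

variable {ρ} in
theorem Mxi.comap {U : Subgroup Y} {L : Submodule k V} (hL : Mxi ρ L) {θ : V ≃ₗ[k] V} (hθ : Otr U ρ θ) :
    Mxi ρ (L.comap (θ : V →ₗ[k] V)) := by
  obtain ⟨σ, h1, -⟩ := hθ
  refine ⟨?_, ?_, ?_⟩
  · intro g _ v hv
    change θ (ρ g v) ∈ L
    rw [h1]
    exact hL.inv _ trivial _ hv
  · intro h2
    apply hL.ne
    rw [eq_top_iff]
    intro v _
    have h3 : θ.symm v ∈ L.comap (θ : V →ₗ[k] V) := by rw [h2]; trivial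
    have h4 : θ (θ.symm v) ∈ L := h3
    rwa [LinearEquiv.apply_symm_apply] at h4
  · intro L' hL' hle
    have h2 : Ivt ρ ⊤ (L'.map (θ : V →ₗ[k] V)) := by
      rintro g _ _ ⟨v, hv, rfl⟩
      refine ⟨ρ (σ.symm g) v, hL' _ trivial v hv, ?_⟩
      change θ (ρ (σ.symm g) v) = ρ g (θ v)
      rw [h1, MulEquiv.apply_symm_apply]
    have h3 : L ≤ L'.map (θ : V →ₗ[k] V) := by
      intro v hv
      refine ⟨θ.symm v, hle ?_, LinearEquiv.apply_symm_apply θ v⟩
      change θ (θ.symm v) ∈ L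
      rwa [LinearEquiv.apply_symm_apply]
    have h5 : ∀ v, v ∈ L' ↔ θ v ∈ L'.map (θ : V →ₗ[k] V) := by
      intro v
      constructor
      · intro hv
        exact ⟨v, hv, rfl⟩
      · rintro ⟨w, hw, e⟩
        have := θ.injective e
        rwa [← this]
    rcases hL.max _ h2 h3 with h4 | h4
    · left
      ext v
      rw [h5, h4]
      rfl
    · right
      rw [eq_top_iff]
      intro v _
      rw [h5, h4]
      trivial

namespace Fam

variable (F : Fam cs h p T n X C)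
include F

variable [Finite Y] [∀ l, Finite (W l)]

variable [Fact p.Prime] [CharP k p]

omit F in
theorem good_insert_le [DecidableEq κ] {F : Fam cs h p T n X C} {ρ : Y →* Module.End k V} {s : Finset κ}
    {N Z : Submodule k V} (hN : Good F ρ s N) (hNZ : N ≤ Z) (hT : Ivt ρ T Z)
    (hc : ∀ l i, ∀ v ∈ Z, Ti (n l) (X l) ρ i v ∈ Z) {l : κ} (hl : l ∉ s) :
    ∃ N' : Submodule k V, Good F ρ (insert l s) N' ∧ N' ≤ Z := by
  obtain ⟨w, g, hg, h1, h2, h3, h4⟩ := exists_simul_le (F.rgd l) ρ hN.simp (hN.fix.trans (fx_mono ρ (U_le_Ut l)))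
    hNZ hT (hc l)
  have hgC : g ∈ C l := by
    refine (?_ : Subgroup.closure (Set.range (n l)) ≤ _) hg
    rw [Subgroup.closure_le]
    rintro _ ⟨i, rfl⟩
    exact F.n_mem l i
  refine ⟨_, ⟨h1, ?_, ?_⟩, h4⟩
  · intro v hv
    rw [mem_fx_Ut]
    intro m
    by_cases hm : m = l
    · subst hm
      exact h2 hv
    · obtain ⟨v', hv', rfl⟩ := hv
      intro u hu
      rw [F.comm_Tk ρ hm hgC (F.U_le m hu)]
      congr 1
      exact (mem_fx_Ut ρ).1 (hN.fix hv') m u hu
  · intro m hm i v hv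
    by_cases hml : m = l
    · subst hml
      exact h3 i v hv
    · have hms : m ∈ s := (Finset.mem_insert.1 hm).resolve_left hml
      obtain ⟨v', hv', rfl⟩ := hv
      rw [F.Ti_Tk ρ hml hgC]
      exact ⟨_, hN.st m hms i v' hv', rfl⟩

/-- **There is a good subspace of `Z`.** -/
theorem exists_good_le [FiniteDimensional k V] {Z : Submodule k V} (hZ0 : Z ≠ ⊥) (hZU : Z ≤ fx ρ (Ut cs h X))
    (hT : Ivt ρ T Z) (hc : ∀ l i, ∀ v ∈ Z, Ti (n l) (X l) ρ i v ∈ Z) :
    ∃ N : Submodule k V, Good F ρ Finset.univ N ∧ N ≤ Z := by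
  classical
  obtain ⟨L, ⟨hLN, hL0, hL⟩, hmin⟩ := (wellFounded_lt (α := Submodule k V)).has_min
    {L : Submodule k V | L ≤ Z ∧ L ≠ ⊥ ∧ Ivt ρ T L} ⟨_, le_rfl, hZ0, hT⟩
  have hgood : Good F ρ ∅ L := by
    refine ⟨⟨hL0, hL, ?_⟩, hLN.trans hZU, fun l hl => absurd hl (Finset.notMem_empty l)⟩
    intro L' hL' hi
    by_cases h1 : L' = ⊥
    · exact Or.inl h1
    · right
      by_contra hne
      exact hmin L' ⟨hL'.trans hLN, h1, hi⟩ (lt_of_le_of_ne hL' hne)
  have key : ∀ s : Finset κ, ∃ N : Submodule k V, Good F ρ s N ∧ N ≤ Z := by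
    intro s
    induction s using Finset.induction_on with
    | empty => exact ⟨L, hgood, hLN⟩
    | insert a s ha ih =>
      obtain ⟨N, hN, hNZ⟩ := ih
      exact good_insert_le hN hNZ hT hc ha
  exact key _

variable (hG : GGt cs h T X = ⊤) {𝓡 : Subgroup (V ≃ₗ[k] V)} (hO : ∀ θ ∈ 𝓡, Otr (Ut cs h X) ρ θ)
  (hirr : ∀ L : Submodule k V, Ivt ρ ⊤ L → (∀ θ ∈ 𝓡, ∀ v ∈ L, θ v ∈ L) → L = ⊥ ∨ L = ⊤)
include hG hO hirr

/-- a nonzero vector of `V^U` is not killed by the fixed functionals of `U⁻` -/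
theorem exists_pair [FiniteDimensional k V] {v : V} (hv : v ∈ fx ρ (Ut cs h X)) (hv0 : v ≠ 0) :
    ∃ φ ∈ fx (dualRep ρ) (UNt cs h X), φ v ≠ 0 := by
  classical
  -- a maximal invariant subspace without `v`
  obtain ⟨L, hL, hvL⟩ : ∃ L : Submodule k V, Mxi ρ L ∧ v ∉ L := by
    have h0 : ∃ L : Submodule k V, Mxi ρ L := by
      obtain ⟨L, ⟨h1, h2⟩, hmax⟩ := (wellFounded_gt (α := Submodule k V)).has_min
        {L : Submodule k V | Ivt ρ ⊤ L ∧ L ≠ ⊤} ⟨⊥, by
          intro g _ w hw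
          rw [Submodule.mem_bot] at hw ⊢
          rw [hw, map_zero], by
          intro h1
          apply hv0
          rw [← Submodule.mem_bot k, h1]
          trivial⟩
      refine ⟨L, h1, h2, fun L' hL' hle => ?_⟩
      by_cases h3 : L' = ⊤
      · exact Or.inr h3
      · left
        by_contra hne
        exact hmax L' ⟨hL', h3⟩ (lt_of_le_of_ne hle (Ne.symm hne))
    by_contra hcon
    push Not at hcon
    have h1 : sInf {L : Submodule k V | Mxi ρ L} = ⊥ := by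
      refine (hirr _ ?_ ?_).resolve_right ?_
      · intro g hg w hw
        rw [Submodule.mem_sInf] at hw ⊢
        intro L hL
        exact hL.inv g hg w (hw L hL)
      · intro θ hθ w hw
        rw [Submodule.mem_sInf] at hw ⊢
        intro L hL
        exact hw _ (Mxi.comap hL (hO θ hθ))
      · intro h2
        obtain ⟨L, hL⟩ := h0
        apply hL.ne
        rw [eq_top_iff, ← h2]
        exact sInf_le hL
    apply hv0
    rw [← Submodule.mem_bot k, ← h1, Submodule.mem_sInf]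
    exact hcon
  have hne : L.mkQ v ≠ 0 := by
    intro h1
    apply hvL
    rwa [Submodule.mkQ_apply, Submodule.Quotient.mk_eq_zero] at h1
  have hnt : Nontrivial (V ⧸ L) := nontrivial_of_ne _ _ hne
  have hirr2 : ∀ L' : Submodule k (V ⧸ L), Ivt (qRep ρ L hL.inv) (GGt cs h T X) L' → L' = ⊥ ∨ L' = ⊤ := by
    intro L' hL'
    have h1 : Ivt ρ ⊤ (L'.comap L.mkQ) := by
      intro g _ w hw
      change L.mkQ (ρ g w) ∈ L'
      rw [← qRep_apply ρ L hL.inv]
      exact hL' g (by rw [hG]; trivial) _ hw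
    have h2 : L ≤ L'.comap L.mkQ := by
      intro w hw
      change L.mkQ w ∈ L'
      have : L.mkQ w = 0 := by
        rw [Submodule.mkQ_apply, Submodule.Quotient.mk_eq_zero]
        exact hw
      rw [this]
      exact Submodule.zero_mem _
    rcases hL.max _ h1 h2 with h3 | h3
    · left
      rw [eq_bot_iff]
      intro w hw
      obtain ⟨w, rfl⟩ := L.mkQ_surjective w
      have h4 : w ∈ L'.comap L.mkQ := hw
      rw [h3] at h4
      rw [Submodule.mem_bot, Submodule.mkQ_apply, Submodule.Quotient.mk_eq_zero]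
      exact h4
    · right
      rw [eq_top_iff]
      intro w _
      obtain ⟨w, rfl⟩ := L.mkQ_surjective w
      have h4 : w ∈ L'.comap L.mkQ := by rw [h3]; trivial
      exact h4
  have hmain := F.main (qRep ρ L hL.inv) hirr2
  obtain ⟨φ, hφ, hφv⟩ := (F.eq_fx (qRep ρ L hL.inv) hirr2 hmain).2 (L.mkQ v) (by
    intro u hu
    rw [qRep_apply, hv u hu]) hne
  refine ⟨φ.comp L.mkQ, ?_, hφv⟩
  rw [mem_fx_dual] at hφ ⊢
  intro u hu w
  change φ (L.mkQ (ρ u w)) = φ (L.mkQ w)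
  rw [← qRep_apply ρ L hL.inv]
  exact hφ u hu _

/-- `k[U⁻] N ∩ V^U = N` for `N ≤ V^U` -/
theorem mem_of_Sp [FiniteDimensional k V] {N : Submodule k V} (hN : N ≤ fx ρ (Ut cs h X)) {v : V}
    (hv : v ∈ Sp ρ (UNt cs h X) N) (hvU : v ∈ fx ρ (Ut cs h X)) : v ∈ N := by
  have key : ∃ m ∈ N, ∀ φ ∈ fx (dualRep ρ) (UNt cs h X), φ (v - m) = 0 := by
    clear hvU
    induction hv using Submodule.span_induction with
    | mem x hx =>
      obtain ⟨u, hu, m, hm, rfl⟩ := hx
      refine ⟨m, hm, fun φ hφ => ?_⟩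
      rw [mem_fx_dual] at hφ
      rw [map_sub, hφ u hu, sub_self]
    | zero => exact ⟨0, N.zero_mem, fun φ _ => by rw [sub_zero, map_zero]⟩
    | add x y _ _ hx hy =>
      obtain ⟨m, hm, h1⟩ := hx
      obtain ⟨m', hm', h2⟩ := hy
      refine ⟨m + m', N.add_mem hm hm', fun φ hφ => ?_⟩
      have e : x + y - (m + m') = x - m + (y - m') := by abel
      rw [e, map_add, h1 φ hφ, h2 φ hφ, add_zero]
    | smul c x _ hx =>
      obtain ⟨m, hm, h1⟩ := hx
      refine ⟨c • m, N.smul_mem c hm, fun φ hφ => ?_⟩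
      rw [← smul_sub, map_smul, h1 φ hφ, smul_zero]
  obtain ⟨m, hm, h1⟩ := key
  by_cases h2 : v - m = 0
  · rw [sub_eq_zero.1 h2]; exact hm
  · exfalso
    obtain ⟨φ, hφ, h3⟩ := F.exists_pair ρ hG hO hirr (v := v - m) ((fx ρ (Ut cs h X)).sub_mem hvU (hN hm)) h2
    exact h3 (h1 φ hφ)

/-- `k[U⁻] N` is simple for a good `N` -/
theorem Sp_simple [FiniteDimensional k V] {N : Submodule k V} (hN : Good F ρ Finset.univ N) {L : Submodule k V}
    (hL : Ivt ρ ⊤ L) (hLN : L ≤ Sp ρ (UNt cs h X) N) : L = ⊥ ∨ L = Sp ρ (UNt cs h X) N := by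
  by_cases h0 : L = ⊥
  · exact Or.inl h0
  right
  obtain ⟨v, hv, hv0, hvU⟩ := exists_fixed ρ (F.isPGroup_Ut) L (fun u _ w hw => hL u trivial w hw) h0
  have h1 : L ⊓ fx ρ (Ut cs h X) = N := by
    refine (hN.simp.simple _ ?_ ?_).resolve_left ?_
    · intro w hw
      exact F.mem_of_Sp ρ hG hO hirr hN.fix (hLN hw.1) hw.2
    · intro t ht w hw
      exact ⟨hL t trivial w hw.1, F.inv_fx ρ t ht w hw.2⟩
    · intro h2
      have h3 : v ∈ L ⊓ fx ρ (Ut cs h X) := ⟨hv, hvU⟩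
      rw [h2, Submodule.mem_bot] at h3
      exact hv0 h3
  refine le_antisymm hLN ?_
  unfold Sp
  rw [Submodule.span_le]
  rintro _ ⟨u, -, m, hm, rfl⟩
  rw [← h1] at hm
  exact hL u trivial m hm.1

/-- **A subspace `0 ≠ Z ≤ V^U`, invariant under `T`, `𝓡` and all `T_i`, is `V^U`.** -/
theorem fx_le_hecke [Finite V] {Z : Submodule k V} (hZ0 : Z ≠ ⊥) (hZU : Z ≤ fx ρ (Ut cs h X))
    (hT : Ivt ρ T Z) (hc : ∀ l i, ∀ v ∈ Z, Ti (n l) (X l) ρ i v ∈ Z) (hR : ∀ θ ∈ 𝓡, ∀ v ∈ Z, θ v ∈ Z) :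
    fx ρ (Ut cs h X) ≤ Z := by
  classical
  have _ : FiniteDimensional k V := Module.Finite.of_finite
  obtain ⟨N, hN, hNZ⟩ := F.exists_good_le ρ hZ0 hZU hT hc
  set L := Sp ρ (UNt cs h X) N with hLdef
  have hL : Ivt ρ ⊤ L := by
    have := Ivt_of_le ρ hN.stable
    rwa [hG] at this
  have hLθ : ∀ θ ∈ 𝓡, Ivt ρ ⊤ (L.map (θ : V →ₗ[k] V)) := by
    rintro θ hθ g _ _ ⟨v, hv, rfl⟩
    obtain ⟨σ, h1, -⟩ := hO θ hθ
    refine ⟨ρ (σ.symm g) v, hL _ trivial v hv, ?_⟩
    change θ (ρ (σ.symm g) v) = ρ g (θ v)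
    rw [h1, MulEquiv.apply_symm_apply]
  have hLs : ∀ θ ∈ 𝓡, ∀ L', Ivt ρ ⊤ L' → L' ≤ L.map (θ : V →ₗ[k] V) → L' = ⊥ ∨ L' = L.map (θ : V →ₗ[k] V) := by
    intro θ hθ L' hL' hle
    obtain ⟨σ, h1, -⟩ := hO θ hθ
    have h2 : Ivt ρ ⊤ (L'.comap (θ : V →ₗ[k] V)) := by
      intro g _ v hv
      change θ (ρ g v) ∈ L'
      rw [h1]
      exact hL' _ trivial _ hv
    have h3 : L'.comap (θ : V →ₗ[k] V) ≤ L := by
      intro v hv
      obtain ⟨w, hw, e⟩ := hle (hv : θ v ∈ L')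
      have := θ.injective e
      rwa [← this]
    rcases F.Sp_simple ρ hG hO hirr hN h2 h3 with h4 | h4
    · left
      rw [eq_bot_iff]
      intro v hv
      obtain ⟨w, -, e⟩ := hle hv
      have h5 : w ∈ L'.comap (θ : V →ₗ[k] V) := by
        change θ w ∈ L'
        rw [show θ w = v from e]
        exact hv
      rw [h4, Submodule.mem_bot] at h5
      rw [Submodule.mem_bot, ← e, h5, map_zero]
    · right
      refine le_antisymm hle ?_
      rintro _ ⟨w, hw, rfl⟩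
      have h5 : w ∈ L'.comap (θ : V →ₗ[k] V) := by rw [h4]; exact hw
      exact h5
  have hLf : ∀ θ ∈ 𝓡, ∀ v ∈ L.map (θ : V →ₗ[k] V), v ∈ fx ρ (Ut cs h X) → v ∈ Z := by
    rintro θ hθ _ ⟨v, hv, rfl⟩ hvU
    obtain ⟨σ, h1, h2⟩ := hO θ hθ
    refine hR θ hθ v (hNZ (F.mem_of_Sp ρ hG hO hirr hN.fix hv ?_))
    intro u hu
    apply θ.injective
    rw [h1]
    exact hvU _ ((h2 u).1 hu)
  -- the sum of the `θ L`
  have htop : (⨆ θ : 𝓡, L.map ((θ : V ≃ₗ[k] V) : V →ₗ[k] V)) = ⊤ := by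
    refine (hirr _ ?_ ?_).resolve_left ?_
    · intro g hg v hv
      have h1 : (⨆ θ : 𝓡, L.map ((θ : V ≃ₗ[k] V) : V →ₗ[k] V)) ≤
          (⨆ θ : 𝓡, L.map ((θ : V ≃ₗ[k] V) : V →ₗ[k] V)).comap (ρ g) := by
        refine iSup_le fun θ => ?_
        intro w hw
        exact (le_iSup (fun θ : 𝓡 => L.map ((θ : V ≃ₗ[k] V) : V →ₗ[k] V)) θ) (hLθ θ.1 θ.2 g hg w hw)
      exact h1 hv
    · intro η hη v hv
      have h1 : (⨆ θ : 𝓡, L.map ((θ : V ≃ₗ[k] V) : V →ₗ[k] V)) ≤
          (⨆ θ : 𝓡, L.map ((θ : V ≃ₗ[k] V) : V →ₗ[k] V)).comap (η : V →ₗ[k] V) := by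
        refine iSup_le fun θ => ?_
        rintro _ ⟨w, hw, rfl⟩
        exact (le_iSup (fun θ : 𝓡 => L.map ((θ : V ≃ₗ[k] V) : V →ₗ[k] V)) (⟨η, hη⟩ * θ)) ⟨w, hw, rfl⟩
      exact h1 hv
    · intro h1
      apply hN.simp.ne
      rw [eq_bot_iff, ← h1]
      refine le_trans ?_ (le_iSup (fun θ : 𝓡 => L.map ((θ : V ≃ₗ[k] V) : V →ₗ[k] V)) 1)
      intro v hv
      exact ⟨v, le_Sp ρ hv, rfl⟩
  have hfin : Finite 𝓡 := by
    have : Finite (V ≃ₗ[k] V) := Finite.of_injective (fun θ : V ≃ₗ[k] V => (θ : V → V)) DFunLike.coe_injective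
    infer_instance
  have key : ∀ s : Finset 𝓡, ∀ v ∈ (⨆ θ ∈ s, L.map ((θ : V ≃ₗ[k] V) : V →ₗ[k] V)), v ∈ fx ρ (Ut cs h X) → v ∈ Z := by
    intro s
    induction s using Finset.induction_on with
    | empty =>
      intro v hv _
      have h0 : (⨆ θ ∈ (∅ : Finset 𝓡), L.map ((θ : V ≃ₗ[k] V) : V →ₗ[k] V)) = ⊥ := by simp
      rw [h0, Submodule.mem_bot] at hv
      rw [hv]
      exact Z.zero_mem
    | insert a s ha ih =>
      intro v hv hvU
      rw [Finset.iSup_insert] at hv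
      set P := (⨆ θ ∈ s, L.map ((θ : V ≃ₗ[k] V) : V →ₗ[k] V)) with hP
      have hPi : Ivt ρ ⊤ P := by
        intro g hg w hw
        have h1 : P ≤ P.comap (ρ g) := by
          rw [hP]
          refine iSup₂_le fun θ hθ => ?_
          intro w hw
          exact (le_iSup₂ (f := fun (θ : 𝓡) (_ : θ ∈ s) => L.map ((θ : V ≃ₗ[k] V) : V →ₗ[k] V)) θ hθ)
            (hLθ θ.1 θ.2 g hg w hw)
        exact h1 hw
      rcases hLs a.1 a.2 (L.map ((a : V ≃ₗ[k] V) : V →ₗ[k] V) ⊓ P)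
        (fun g hg w hw => ⟨hLθ a.1 a.2 g hg w hw.1, hPi g hg w hw.2⟩) inf_le_left with h1 | h1
      · obtain ⟨x, hx, y, hy, rfl⟩ := Submodule.mem_sup.1 hv
        have h2 : ∀ u ∈ Ut cs h X, ρ u x = x ∧ ρ u y = y := by
          intro u hu
          have h3 : ρ u x - x ∈ L.map ((a : V ≃ₗ[k] V) : V →ₗ[k] V) ⊓ P := by
            refine ⟨Submodule.sub_mem _ (hLθ a.1 a.2 u trivial x hx) hx, ?_⟩
            have h4 := hvU u hu
            rw [map_add] at h4
            have h5 : ρ u x - x = y - ρ u y := by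
              rw [sub_eq_sub_iff_add_eq_add, h4, add_comm]
            rw [h5]
            exact Submodule.sub_mem _ hy (hPi u trivial y hy)
          rw [h1, Submodule.mem_bot, sub_eq_zero] at h3
          refine ⟨h3, ?_⟩
          have h4 := hvU u hu
          rw [map_add, h3] at h4
          exact add_left_cancel h4
        exact Z.add_mem (hLf a.1 a.2 x hx fun u hu => (h2 u hu).1) (ih y hy fun u hu => (h2 u hu).2)
      · have h2 : L.map ((a : V ≃ₗ[k] V) : V →ₗ[k] V) ≤ P := by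
          rw [← h1]
          exact inf_le_right
        rw [sup_eq_right.2 h2] at hv
        exact ih v hv hvU
  intro v hv
  let _ : Fintype 𝓡 := Fintype.ofFinite _
  refine key Finset.univ v ?_ hv
  have h1 : (⨆ θ ∈ (Finset.univ : Finset 𝓡), L.map ((θ : V ≃ₗ[k] V) : V →ₗ[k] V)) = ⊤ := by
    rw [← htop]
    simp only [Finset.mem_univ, iSup_pos]
  rw [h1]
  trivial

/-- **If `φ : V' → V` is equivariant and `φ(V'^U) ≠ 0`, then `φ(V'^U) = V^U`.** -/
theorem fx_le_map [Finite V] {V' : Type*} [AddCommGroup V'] [Module k V'] (ρ' : Y →* Module.End k V')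
    (φ : V' →ₗ[k] V) (hφ : ∀ g v, φ (ρ' g v) = ρ g (φ v))
    (hR : ∀ θ ∈ 𝓡, ∀ v ∈ fx ρ' (Ut cs h X), θ (φ v) ∈ (fx ρ' (Ut cs h X)).map φ)
    (h0 : (fx ρ' (Ut cs h X)).map φ ≠ ⊥) : fx ρ (Ut cs h X) ≤ (fx ρ' (Ut cs h X)).map φ := by
  refine F.fx_le_hecke ρ hG hO hirr h0 ?_ ?_ ?_ ?_
  · rintro _ ⟨v, hv, rfl⟩ u hu
    rw [← hφ, hv u hu]
  · rintro t ht _ ⟨v, hv, rfl⟩
    exact ⟨ρ' t v, F.inv_fx ρ' t ht v hv, hφ t v⟩
  · rintro l i _ ⟨v, hv, rfl⟩
    refine ⟨Ti (n l) (X l) ρ' i v, ?_, ?_⟩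
    · rw [SetLike.mem_coe, mem_fx_Ut]
      intro m
      by_cases hm : m = l
      · subst hm
        exact Ti_fix (F.rgd m) ρ' ((mem_fx_Ut ρ').1 hv m) i
      · intro u hu
        have h1 := (mem_fx_Ut ρ').1 hv m u hu
        classical
        let _ := Fintype.ofFinite (X l (sr i))
        rw [Ti_apply, sg_def, map_sum]
        refine Finset.sum_congr rfl fun x _ => ?_
        have hx : (x : Y) ∈ C l := F.X_le l _ (isRoot_sr _ _ i) x.2
        have h2 : u * ((x : Y) * n l i) = x * n l i * u :=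
          F.comm m l hm u (F.U_le m hu) _ (mul_mem hx (F.n_mem l i))
        have h3 : ρ' u (ρ' (x : Y) (ρ' (n l i) v)) = ρ' (u * ((x : Y) * n l i)) v := by rw [rho_mul, rho_mul]
        rw [h3, h2, rho_mul, rho_mul, h1]
    · classical
      let _ := Fintype.ofFinite (X l (sr i))
      rw [Ti_apply, Ti_apply, sg_def, sg_def, map_sum]
      refine Finset.sum_congr rfl fun x _ => ?_
      rw [hφ, hφ]
  · rintro θ hθ _ ⟨v, hv, rfl⟩
    exact hR θ hθ v hv

end Fam

end Cfsg.Agent.Omega.CR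

end

section


/-!
# The theorem of Curtis and Richen for all split (B,N)-pairs, in the language of buildings (helper818)

`S : Sys Δ G p` (a finite group with a split (B,N)-pair of characteristic `p`, seen through its building), `ρ` a
representation of `G` over a field of characteristic `p`.

* `Vx x` : the fixed space of `U x`;  `tr y x : Vx x → Vx y` : the Hecke operators, `tr_comp`, `Syst.sq`;
* `Syst N` : an equivariant system of subspaces `N x ≤ Vx x`;
* `Syst.star` : `N y ≤ ∑ N z`, over the other chambers of a panel (`N` simple and stable under the Hecke operators);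
* `Syst.le_opp` : `N z ≤ ∑ N x`, over the chambers `x` opposite to a fixed chamber.
-/

set_option autoImplicit false
set_option linter.unusedSectionVars false

namespace Cfsg.Agent.Omega.CR.Bl

open Cfsg.Agent.Tits.Core Cfsg.Agent.Tits.Core.Bldg Cfsg.Agent.Tits.Exchange Cfsg.Agent.Tits
open Cfsg.Agent.FixBN Cfsg.Agent.FixBN.Cox

variable {I : Type*} {M : CoxeterMatrix I} {W : Type*} [Group W] {cs : CoxeterSystem M W} {C : Type*}
  {Δ : Bldg cs C}

local prefix:100 "ℓ" => cs.length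

omit Δ in
theorem length_le_w0 [F : OppRes.Cox cs] (w : W) : ℓ w ≤ ℓ (w0 cs) := by
  have := F.len_mul_w0 w
  omega

theorem eq_w0_of_forall [F : OppRes.Cox cs] {w : W} (h : ∀ i, ℓ (w * cs.simple i) ≤ ℓ w) : w = w0 cs := by
  by_contra hne
  have h1 : w0 cs * w ≠ 1 := by
    intro h2
    apply hne
    have h3 : w = w0 cs * (w0 cs * w) := by rw [← mul_assoc, F.w0_mul_self, one_mul]
    rw [h3, h2, mul_one]
  obtain ⟨j, -, hj⟩ := F.exists_descent (J := Set.univ) (by rw [WJ_univ]; trivial) h1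
  have h2 := F.len_w0_mul w
  have h3 := F.len_w0_mul (w * cs.simple j)
  have h4 := h j
  rw [mul_assoc] at hj
  omega

variable {G : Type*} [Group G] [MulAction G C] {p : ℕ} (S : Sys Δ G p) [F : OppRes.Cox cs]
  {k V : Type*} [Field k] [AddCommGroup V] [Module k V] (ρ : G →* Module.End k V)

/-- the fixed space of `U x` -/
def Vx (x : C) : Submodule k V := fx ρ (S.U x)

omit F in
theorem mem_Vx {x : C} {v : V} : v ∈ Vx S ρ x ↔ ∀ u ∈ S.U x, ρ u v = v := Iff.rfl

omit F in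
theorem rho_mem_Vx (g : G) {x : C} {v : V} (hv : v ∈ Vx S ρ x) : ρ g v ∈ Vx S ρ (g • x) := by
  intro u hu
  have h1 : g⁻¹ * u * g ∈ S.U x := by
    have := S.conj_mem_U hu g⁻¹
    rwa [inv_smul_smul, inv_inv] at this
  have h2 : u * g = g * (g⁻¹ * u * g) := by group
  rw [← rho_mul, h2, rho_mul, hv _ h1]

omit F in
/-- the values do not depend on the choice -/
theorem val {x y : C} {v : V} (hv : v ∈ Vx S ρ x) {u u' : G} (hu : u ∈ S.U y) (hu' : u' ∈ S.U y)
    (h : u • x = u' • x) : ρ u v = ρ u' v := by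
  have h1 : u'⁻¹ * u ∈ S.U x := by
    refine S.mem_U_of_fix (mul_mem (inv_mem hu') hu) ?_
    rw [mul_smul, h, inv_smul_smul]
  have h2 : u = u' * (u'⁻¹ * u) := by group
  rw [h2, rho_mul, hv _ h1]

/-- an element of `U y` which moves `x` to `z` -/
noncomputable def mv (y x z : C) : G := by
  classical
  exact if h : Δ.δ y x = Δ.δ y z then (S.exists_move h).choose else 1

theorem mv_mem (y x z : C) : mv S y x z ∈ S.U y := by
  classical
  unfold mv
  split_ifs with h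
  · exact (S.exists_move h).choose_spec.1
  · exact one_mem _

theorem mv_smul {y x z : C} (h : Δ.δ y z = Δ.δ y x) : mv S y x z • x = z := by
  classical
  unfold mv
  rw [dif_pos h.symm]
  exact (S.exists_move h.symm).choose_spec.2

section fin

variable [Fintype C]

/-- the sphere -/
noncomputable def sph (Δ : Bldg cs C) (y : C) (w : W) : Finset C := by
  classical
  exact Finset.univ.filter fun z => Δ.δ y z = w

theorem mem_sph {y z : C} {w : W} : z ∈ sph Δ y w ↔ Δ.δ y z = w := by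
  classical
  unfold sph
  simp

/-- the Hecke operator -/
noncomputable def tr (y x : C) : Module.End k V := ∑ z ∈ sph Δ y (Δ.δ y x), ρ (mv S y x z)

theorem tr_apply (y x : C) (v : V) : tr S ρ y x v = ∑ z ∈ sph Δ y (Δ.δ y x), ρ (mv S y x z) v := by
  unfold tr
  rw [LinearMap.sum_apply]

theorem tr_eq {x y : C} {v : V} (hv : v ∈ Vx S ρ x) (f : C → G)
    (hf : ∀ z, Δ.δ y z = Δ.δ y x → f z ∈ S.U y ∧ f z • x = z) :
    tr S ρ y x v = ∑ z ∈ sph Δ y (Δ.δ y x), ρ (f z) v := by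
  rw [tr_apply]
  refine Finset.sum_congr rfl fun z hz => ?_
  rw [mem_sph] at hz
  obtain ⟨h1, h2⟩ := hf z hz
  exact val S ρ hv (mv_mem S y x z) h1 (by rw [mv_smul S hz, h2])

theorem tr_mem {x y : C} {v : V} (hv : v ∈ Vx S ρ x) : tr S ρ y x v ∈ Vx S ρ y := by
  intro a ha
  rw [tr_apply, map_sum]
  refine Finset.sum_bij (fun z _ => a • z) ?_ ?_ ?_ ?_
  · intro z hz
    rw [mem_sph] at hz ⊢
    rw [S.δ_smul ha, hz]
  · intro z _ z' _ h
    exact smul_left_cancel a h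
  · intro z hz
    rw [mem_sph] at hz
    refine ⟨a⁻¹ • z, ?_, smul_inv_smul a z⟩
    rw [mem_sph, S.δ_smul (inv_mem ha), hz]
  · intro z hz
    rw [mem_sph] at hz
    rw [← rho_mul]
    refine val S ρ hv (mul_mem ha (mv_mem S y x z)) (mv_mem S y x _) ?_
    rw [mul_smul, mv_smul S hz, mv_smul S (by rw [S.δ_smul ha, hz])]

theorem rho_tr (g : G) {x y : C} {v : V} (hv : v ∈ Vx S ρ x) :
    ρ g (tr S ρ y x v) = tr S ρ (g • y) (g • x) (ρ g v) := by
  rw [tr_apply, tr_apply, map_sum]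
  refine Finset.sum_bij (fun z _ => g • z) ?_ ?_ ?_ ?_
  · intro z hz
    rw [mem_sph] at hz ⊢
    rw [S.iso, S.iso, hz]
  · intro z _ z' _ h
    exact smul_left_cancel g h
  · intro z hz
    rw [mem_sph] at hz
    refine ⟨g⁻¹ • z, ?_, smul_inv_smul g z⟩
    rw [mem_sph, ← S.iso g, smul_inv_smul, hz, S.iso]
  · intro z hz
    rw [mem_sph] at hz
    have h1 : g * mv S y x z = g * mv S y x z * g⁻¹ * g := by group
    rw [← rho_mul, h1, rho_mul]
    refine val S ρ (rho_mem_Vx S ρ g hv) (S.conj_mem_U (mv_mem S y x z) g) (mv_mem S _ _ _) ?_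
    rw [mv_smul S (by rw [S.iso, S.iso, hz]), mul_smul, inv_smul_smul, mul_smul, mv_smul S hz]

/-- **Composition.** -/
theorem tr_comp {x y z : C} (hl : ℓ (Δ.δ y z * Δ.δ z x) = ℓ (Δ.δ y z) + ℓ (Δ.δ z x)) {v : V}
    (hv : v ∈ Vx S ρ x) : tr S ρ y x v = tr S ρ y z (tr S ρ z x v) := by
  have hyx : Δ.δ y x = Δ.δ y z * Δ.δ z x := Δ.δ_mul_of rfl rfl hl
  have hd : ∀ x', Δ.δ z x' = Δ.δ z x → Δ.δ y x' = Δ.δ y x := by
    intro x' h
    rw [hyx, ← h]
    exact Δ.δ_mul_of rfl rfl (by rw [h]; exact hl)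
  have hb : ∀ x', Δ.δ z x' = Δ.δ z x → mv S y x x' ∈ S.U z ∧ mv S y x x' • x = x' := by
    intro x' h
    have h1 := mv_smul S (hd x' h)
    refine ⟨S.mem_U_of_fix (mv_mem S y x x') ?_, h1⟩
    refine Δ.between_unique hl (x := y) (z := x') ?_ ?_ rfl h
    · exact S.δ_smul (mv_mem S y x x')
    · have h2 : Δ.δ (mv S y x x' • z) (mv S y x x' • x) = Δ.δ z x := S.iso _ _ _
      rwa [h1] at h2
  rw [tr_eq S ρ (y := z) hv (fun x' => mv S y x x') hb, map_sum]
  have h1 : ∀ x' ∈ sph Δ z (Δ.δ z x), tr S ρ y z (ρ (mv S y x x') v) =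
      ∑ z' ∈ sph Δ y (Δ.δ y z), ρ (mv S y z z' * mv S y x x') v := by
    intro x' _
    rw [tr_apply]
    exact Finset.sum_congr rfl fun z' _ => by rw [rho_mul]
  rw [Finset.sum_congr rfl h1, ← Finset.sum_product', tr_apply]
  symm
  refine Finset.sum_bij (fun q _ => mv S y z q.2 • q.1) ?_ ?_ ?_ ?_
  · rintro ⟨x', z'⟩ h
    rw [Finset.mem_product, mem_sph, mem_sph] at h
    rw [mem_sph]
    exact (S.δ_smul (mv_mem S y z z')).trans (hd x' h.1)
  · rintro ⟨x₁, z₁⟩ h₁ ⟨x₂, z₂⟩ h₂ h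
    rw [Finset.mem_product, mem_sph, mem_sph] at h₁ h₂
    obtain ⟨a₁, b₁⟩ := h₁
    obtain ⟨a₂, b₂⟩ := h₂
    simp only at h a₁ b₁ a₂ b₂
    have e1 : Δ.δ z₁ (mv S y z z₁ • x₁) = Δ.δ z x := by
      have h2 : Δ.δ (mv S y z z₁ • z) (mv S y z z₁ • x₁) = Δ.δ z x₁ := S.iso _ _ _
      rwa [mv_smul S b₁, a₁] at h2
    have e2 : Δ.δ z₂ (mv S y z z₂ • x₂) = Δ.δ z x := by
      have h2 : Δ.δ (mv S y z z₂ • z) (mv S y z z₂ • x₂) = Δ.δ z x₂ := S.iso _ _ _
      rwa [mv_smul S b₂, a₂] at h2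
    have e3 : z₁ = z₂ := Δ.between_unique hl (x := y) (z := mv S y z z₁ • x₁) b₁ e1 b₂ (by rw [h]; exact e2)
    subst e3
    have e4 : x₁ = x₂ := smul_left_cancel _ h
    rw [e4]
  · intro x'' hx''
    rw [mem_sph, hyx] at hx''
    obtain ⟨z', h2, h3⟩ := Δ.exists_between hx'' hl
    refine ⟨((mv S y z z')⁻¹ • x'', z'), ?_, smul_inv_smul _ _⟩
    rw [Finset.mem_product, mem_sph, mem_sph]
    refine ⟨?_, h2⟩
    rw [← S.iso (mv S y z z'), smul_inv_smul, mv_smul S h2, h3]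
  · rintro ⟨x', z'⟩ h
    rw [Finset.mem_product, mem_sph, mem_sph] at h
    obtain ⟨a, b⟩ := h
    simp only at a b ⊢
    refine val S ρ hv (mul_mem (mv_mem S y z z') (mv_mem S y x x')) (mv_mem S y x _) ?_
    rw [mul_smul, mv_smul S (hd x' a), mv_smul S ((S.δ_smul (mv_mem S y z z')).trans (hd x' a))]

/-- in a panel the operators do not depend on the second chamber -/
theorem tr_panel {x y z : C} {i : I} (hxy : Δ.δ x y = cs.simple i) (hxz : Δ.δ x z = cs.simple i) {m : V}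
    (hm : m ∈ Vx S ρ z) : tr S ρ x y m = tr S ρ x z m := by
  classical
  rw [tr_apply, tr_apply, hxy, hxz]
  have hinj : Set.InjOn (fun y' => mv S x y y' • z) (sph Δ x (cs.simple i) : Set C) := by
    intro y₁ h₁ y₂ h₂ h
    rw [Finset.mem_coe, mem_sph] at h₁ h₂
    have h1 : ((mv S x y y₂)⁻¹ * mv S x y y₁) • z = z := by
      rw [mul_smul, show mv S x y y₁ • z = mv S x y y₂ • z from h, inv_smul_smul]
    have h2 := S.pan x z i hxz _ (mul_mem (inv_mem (mv_mem S x y y₂)) (mv_mem S x y y₁)) h1 y (Δ.mem_Pan_of_δ hxy)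
    rw [mul_smul, inv_smul_eq_iff, mv_smul S (h₁.trans hxy.symm), mv_smul S (h₂.trans hxy.symm)] at h2
    exact h2
  have himg : (sph Δ x (cs.simple i)).image (fun y' => mv S x y y' • z) = sph Δ x (cs.simple i) := by
    refine Finset.eq_of_subset_of_card_le ?_ ?_
    · intro a ha
      obtain ⟨y', hy', rfl⟩ := Finset.mem_image.1 ha
      rw [mem_sph, S.δ_smul (mv_mem S x y y'), hxz]
    · rw [Finset.card_image_of_injOn hinj]
  conv_rhs => rw [← himg]
  rw [Finset.sum_image hinj]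
  refine Finset.sum_congr rfl fun y' hy' => ?_
  refine val S ρ hm (mv_mem S x y y') (mv_mem S x z _) ?_
  rw [mv_smul S]
  rw [S.δ_smul (mv_mem S x y y')]

omit [Fintype C] F in
/-- an equivariant system of subspaces of the `Vx x` -/
structure Syst (S : Sys Δ G p) (ρ : G →* Module.End k V) (N : C → Submodule k V) : Prop where
  fix : ∀ x, N x ≤ Vx S ρ x
  eqv : ∀ (g : G) x v, v ∈ N x → ρ g v ∈ N (g • x)

omit [Fintype C] F in
/-- simple systems -/
structure Smp (S : Sys Δ G p) (ρ : G →* Module.End k V) (N : C → Submodule k V) : Prop extends Syst S ρ N where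
  ne : ∀ x, N x ≠ ⊥
  simple : ∀ x, ∀ L ≤ N x, (∀ g : G, g • x = x → ∀ v ∈ L, ρ g v ∈ L) → L = ⊥ ∨ L = N x

/-- stability under the Hecke operators -/
def Stb (N : C → Submodule k V) : Prop :=
  ∀ x y i, Δ.δ x y = cs.simple i → ∀ v ∈ N y, tr S ρ x y v ∈ N x

variable [Fact p.Prime] [CharP k p] (hth : Δ.Thick)
include hth

theorem tr_self_zero {x y : C} {i : I} (hxy : Δ.δ x y = cs.simple i) {m : V} (hm : m ∈ Vx S ρ x) :
    tr S ρ x y m = 0 := by
  classical
  rw [tr_apply, Finset.sum_congr rfl fun z _ => hm _ (mv_mem S x y z), Finset.sum_const, hxy]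
  have h1 : ((sph Δ x (cs.simple i)).card : ZMod p) = 0 := by
    have h2 := S.card_Pan_eq hth x i
    have h3 : Nat.card (Δ.Pan i x) = (sph Δ x (cs.simple i)).card + 1 := by
      have h4 : Δ.Pan i x = insert x ((sph Δ x (cs.simple i) : Finset C) : Set C) := by
        ext z
        rw [Set.mem_insert_iff, Finset.mem_coe, mem_sph]
        rfl
      have h5 : x ∉ ((sph Δ x (cs.simple i) : Finset C) : Set C) := by
        rw [Finset.mem_coe, mem_sph, Δ.δ_self]
        exact fun h => Trace.simple_ne_one i h.symm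
      rw [h4, Nat.card_coe_set_eq, Set.ncard_insert_of_notMem h5, Set.ncard_coe_finset]
    rw [h3] at h2
    push_cast at h2
    exact add_eq_right.1 h2
  have h2 : (((sph Δ x (cs.simple i)).card : ℕ) : k) = 0 := by
    rw [CharP.cast_eq_zero_iff k p]
    exact (ZMod.natCast_eq_zero_iff _ _).1 h1
  rw [← Nat.cast_smul_eq_nsmul k, h2, zero_smul]

variable {S ρ} {N : C → Submodule k V}

omit [Fact p.Prime] [CharP k p] hth in
theorem Syst.map_le (h : Syst S ρ N) {y x x' : C} (hx : Δ.δ y x = Δ.δ y x') :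
    (N x).map (tr S ρ y x) ≤ (N x').map (tr S ρ y x') := by
  rintro _ ⟨v, hv, rfl⟩
  obtain ⟨b, hb, rfl⟩ := S.exists_move hx
  refine ⟨ρ b v, h.eqv b x v hv, ?_⟩
  have h1 := rho_tr S ρ b (y := y) (h.fix x hv)
  rw [S.fix y b hb] at h1
  rw [← h1]
  exact tr_mem S ρ (h.fix x hv) b hb

omit [Fact p.Prime] [CharP k p] hth in
theorem Syst.map_eq (h : Syst S ρ N) {y x x' : C} (hx : Δ.δ y x = Δ.δ y x') :
    (N x).map (tr S ρ y x) = (N x').map (tr S ρ y x') := le_antisymm (h.map_le hx) (h.map_le hx.symm)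

/-- `T T N ⊆ T N` -/
theorem Syst.sq (h : Syst S ρ N) {x y : C} {i : I} (hxy : Δ.δ x y = cs.simple i) {v : V} (hv : v ∈ N x) :
    tr S ρ x y (tr S ρ y x v) ∈ (N y).map (tr S ρ x y) := by
  have hyx := Δ.δ_symm_simple hxy
  rw [tr_apply S ρ y x, map_sum, hyx]
  refine Submodule.sum_mem _ fun z hz => ?_
  rw [mem_sph] at hz
  have hm : ρ (mv S y x z) v ∈ N z := by
    have := h.eqv (mv S y x z) x v hv
    rwa [mv_smul S (hz.trans hyx.symm)] at this
  by_cases hzx : z = x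
  · subst hzx
    rw [tr_self_zero S ρ hth hxy (h.fix _ hm)]
    exact Submodule.zero_mem _
  · have hxz : Δ.δ x z = cs.simple i := Δ.δ_eq_of_mem_Pan (x := y) (Δ.mem_Pan_of_δ hyx) (Δ.mem_Pan_of_δ hz)
      (Ne.symm hzx)
    rw [tr_panel S ρ hxy hxz (h.fix _ hm)]
    exact h.map_le (hxz.trans hxy.symm) ⟨_, hm, rfl⟩

omit [Fact p.Prime] [CharP k p] in
/-- **`N y` is in the sum over the other chambers of the panel.** -/
theorem Smp.star (h : Smp S ρ N) (hs : Stb S ρ N) (y : C) (i : I) {w : V} (hw : w ∈ N y) :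
    w ∈ ⨆ z ∈ sph Δ y (cs.simple i), N z := by
  classical
  obtain ⟨x, hyx⟩ := Δ.exists_δ y (cs.simple i)
  have hxy := Δ.δ_symm_simple hyx
  have hle : ∀ z, Δ.δ y z = cs.simple i → N z ≤ ⨆ z ∈ sph Δ y (cs.simple i), N z := by
    intro z hz
    exact le_iSup₂ (f := fun z (_ : z ∈ sph Δ y (cs.simple i)) => N z) z (mem_sph.2 hz)
  have h1 : (N y).map (tr S ρ x y) ≤ N x := by
    rintro _ ⟨v, hv, rfl⟩
    exact hs x y i hxy v hv
  rcases h.simple x _ h1 (by
    rintro g hg _ ⟨v, hv, rfl⟩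
    rw [rho_tr S ρ g (h.fix y hv), hg]
    refine h.toSyst.map_le (x := g • y) (x' := y) ?_ ⟨_, h.eqv g y v hv, rfl⟩
    have := S.iso g x y
    rwa [hg] at this) with h0 | h0
  · -- the trace is zero
    have h2 : tr S ρ x y w = 0 := by
      rw [← Submodule.mem_bot k, ← h0]
      exact ⟨w, hw, rfl⟩
    have hyS : y ∈ sph Δ x (Δ.δ x y) := mem_sph.2 rfl
    rw [tr_apply, ← Finset.add_sum_erase _ _ hyS] at h2
    have h3 : ρ (mv S x y y) w = w :=
      h.fix y hw _ (S.mem_U_of_fix (mv_mem S x y y) (mv_smul S rfl))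
    rw [h3] at h2
    rw [eq_neg_of_add_eq_zero_left h2]
    refine Submodule.neg_mem _ (Submodule.sum_mem _ fun z hz => ?_)
    obtain ⟨hzy, hz⟩ := Finset.mem_erase.1 hz
    rw [mem_sph] at hz
    have h4 := h.eqv (mv S x y z) y w hw
    rw [mv_smul S hz] at h4
    refine hle z ?_ h4
    exact Δ.δ_eq_of_mem_Pan (x := x) (Δ.mem_Pan_of_δ hxy) (Δ.mem_Pan_of_δ (hz.trans hxy)) (Ne.symm hzy)
  · -- the trace is onto
    obtain ⟨g, hgx⟩ := ML.LieRow.exists_smul_top S hth x y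
    obtain ⟨u, hu, huy⟩ := S.exists_move (x := y) (z := g • y) (z' := x) (by
      have h2 : Δ.δ (g • x) (g • y) = Δ.δ x y := S.iso g x y
      rw [hgx] at h2
      rw [h2, hxy, hyx])
    have e1 : (u * g) • x = y := by rw [mul_smul, hgx, S.fix y u hu]
    have e2 : (u * g) • y = x := by rw [mul_smul, huy]
    have h2 : ρ (u * g)⁻¹ w ∈ N x := by
      have := h.eqv (u * g)⁻¹ y w hw
      rwa [inv_smul_eq_iff.2 e1.symm] at this
    rw [← h0] at h2
    obtain ⟨v, hv, hv'⟩ := h2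
    have h3 : w = tr S ρ y x (ρ (u * g) v) := by
      have h4 := rho_tr S ρ (u * g) (y := x) (h.fix y hv)
      rw [hv', rho_rho_inv, e1, e2] at h4
      exact h4
    have hv2 : ρ (u * g) v ∈ N x := by
      have := h.eqv (u * g) y v hv
      rwa [e2] at this
    rw [h3, tr_apply]
    refine Submodule.sum_mem _ fun z hz => ?_
    rw [mem_sph] at hz
    have h4 := h.eqv (mv S y x z) x _ hv2
    rw [mv_smul S hz] at h4
    exact hle z (hz.trans hyx) h4

omit [Fact p.Prime] [CharP k p] in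
/-- **`N z` is in the sum over the chambers opposite to `d`.** -/
theorem Smp.le_opp (h : Smp S ρ N) (hs : Stb S ρ N) (d z : C) :
    N z ≤ ⨆ x : {x // Δ.Opp d x}, N x.1 := by
  have key : ∀ n : ℕ, ∀ z, ℓ (w0 cs) - ℓ (Δ.δ d z) = n → N z ≤ ⨆ x : {x // Δ.Opp d x}, N x.1 := by
    intro n
    induction n using Nat.strong_induction_on with
    | _ n ih =>
      intro z hn
      by_cases h1 : Δ.δ d z = w0 cs
      · exact le_iSup (fun x : {x // Δ.Opp d x} => N x.1) ⟨z, h1⟩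
      · obtain ⟨i, hi⟩ : ∃ i, ℓ (Δ.δ d z) < ℓ (Δ.δ d z * cs.simple i) := by
          by_contra hcon
          push Not at hcon
          apply h1
          exact eq_w0_of_forall hcon
        intro w hw
        have h2 := h.star hth hs z i hw
        refine (?_ : (⨆ z' ∈ sph Δ z (cs.simple i), N z') ≤ _) h2
        refine iSup₂_le fun z' hz' => ?_
        rw [mem_sph] at hz'
        have h3 := Δ.step_lt d z z' i hz' hi
        refine ih _ ?_ z' rfl
        have h4 : ℓ (Δ.δ d z * cs.simple i) ≤ ℓ (w0 cs) := length_le_w0 _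
        rw [h3]
        omega
  exact key _ z rfl

end fin

end Cfsg.Agent.Omega.CR.Bl

end

section


/-!
# The theorem of Curtis and Richen for all split (B,N)-pairs, part 2 (helper818)

* `exists_stb` : inside a system stable under the Hecke operators there is a simple stable one;
* `eq_Vx` : `V` simple: a simple stable system is `Vx`; the pairing with the fixed functionals of an opposite chamber;
* **`simple_Vx`** : `V` simple: `Vx c` is a simple module for the stabiliser of `c`.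
-/

set_option autoImplicit false
set_option linter.unusedSectionVars false

namespace Cfsg.Agent.Omega.CR.Bl

open Cfsg.Agent.Tits.Core Cfsg.Agent.Tits.Core.Bldg Cfsg.Agent.Tits.Exchange Cfsg.Agent.Tits
open Cfsg.Agent.FixBN Cfsg.Agent.FixBN.Cox

variable {I : Type*} {M : CoxeterMatrix I} {W : Type*} [Group W] {cs : CoxeterSystem M W} {C : Type*}
  {Δ : Bldg cs C}

local prefix:100 "ℓ" => cs.length

variable {G : Type*} [Group G] [MulAction G C] {p : ℕ} (S : Sys Δ G p) [F : OppRes.Cox cs]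
  {k V : Type*} [Field k] [AddCommGroup V] [Module k V] (ρ : G →* Module.End k V) [Fintype C]

/-- the trace from a chamber to itself -/
theorem tr_self {x : C} {v : V} (hv : v ∈ Vx S ρ x) : tr S ρ x x v = v := by
  rw [tr_apply, Δ.δ_self]
  have h1 : sph Δ x (1 : W) = {x} := by
    ext z
    rw [mem_sph, Finset.mem_singleton, Δ.eq_one]
    exact eq_comm
  rw [h1, Finset.sum_singleton]
  exact hv _ (mv_mem S x x x)

/-- the Hecke operator of `w` on systems -/
noncomputable def Tw (w : W) (N : C → Submodule k V) (y : C) : Submodule k V :=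
  ⨆ x : {x // Δ.δ y x = w}, (N x.1).map (tr S ρ y x.1)

variable {S ρ} {N : C → Submodule k V}

theorem Tw_eq (h : Syst S ρ N) {w : W} {y x : C} (hx : Δ.δ y x = w) : Tw S ρ w N y = (N x).map (tr S ρ y x) := by
  unfold Tw
  refine le_antisymm (iSup_le fun x' => h.map_le (x'.2.trans hx.symm)) ?_
  exact le_iSup (fun x : {x // Δ.δ y x = w} => (N x.1).map (tr S ρ y x.1)) ⟨x, hx⟩

theorem Syst.tw (h : Syst S ρ N) (w : W) : Syst S ρ (Tw S ρ w N) where
  fix y := by
    obtain ⟨x, hx⟩ := Δ.exists_δ y w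
    rw [Tw_eq h hx]
    rintro _ ⟨v, hv, rfl⟩
    exact tr_mem S ρ (h.fix x hv)
  eqv g y v hv := by
    obtain ⟨x, hx⟩ := Δ.exists_δ y w
    rw [Tw_eq h hx] at hv
    obtain ⟨v, hv, rfl⟩ := hv
    rw [Tw_eq h (x := g • x) (by rw [S.iso, hx]), rho_tr S ρ g (h.fix x hv)]
    exact ⟨_, h.eqv g x v hv, rfl⟩

/-- nonzero at one chamber, nonzero everywhere -/
theorem Syst.ne_bot (hth : Δ.Thick) (h : Syst S ρ N) {c : C} (hc : N c ≠ ⊥) (x : C) : N x ≠ ⊥ := by
  intro h0
  apply hc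
  obtain ⟨g, rfl⟩ := ML.LieRow.exists_smul_top S hth x c
  rw [eq_bot_iff]
  intro v hv
  have h1 := h.eqv g⁻¹ _ v hv
  rw [inv_smul_smul, h0, Submodule.mem_bot] at h1
  rw [Submodule.mem_bot, ← rho_rho_inv ρ g v, h1, map_zero]

theorem Smp.tw (hth : Δ.Thick) (h : Smp S ρ N) {w : W} {c : C} (hc : Tw S ρ w N c ≠ ⊥) :
    Smp S ρ (Tw S ρ w N) where
  toSyst := h.toSyst.tw w
  ne := (h.toSyst.tw w).ne_bot hth hc
  simple := by
    intro y L hL hLi
    obtain ⟨x, hx⟩ := Δ.exists_δ y w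
    rw [Tw_eq h.toSyst hx] at hL ⊢
    have h1 := h.simple x (N x ⊓ L.comap (tr S ρ y x)) inf_le_left (by
      rintro g hg v ⟨hv, hv'⟩
      have hgv := h.eqv g x v hv
      rw [hg] at hgv
      refine ⟨hgv, ?_⟩
      obtain ⟨b, hb, hby⟩ := S.exists_move (x := x) (z := y) (z' := g • y) (by
        have := S.iso g x y
        rw [hg] at this
        exact this.symm)
      have hbx : b • x = x := S.fix x b hb
      have e1 : (b⁻¹ * g) • x = x := by rw [mul_smul, hg, inv_smul_eq_iff, hbx]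
      have e2 : (b⁻¹ * g) • y = y := by rw [mul_smul, ← hby, inv_smul_smul]
      have e3 : ρ g v = ρ (b⁻¹ * g) v := by
        have h2 : ρ (b⁻¹ * g) v ∈ Vx S ρ x := by
          have := h.eqv (b⁻¹ * g) x v hv
          rw [e1] at this
          exact h.fix x this
        have h3 := h2 b hb
        rw [← rho_mul, mul_inv_cancel_left] at h3
        exact h3
      change tr S ρ y x (ρ g v) ∈ L
      rw [e3]
      have h4 := rho_tr S ρ (b⁻¹ * g) (y := y) (h.fix x hv)
      rw [e1, e2] at h4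
      rw [← h4]
      exact hLi _ e2 _ hv')
    rcases h1 with h1 | h1
    · left
      rw [eq_bot_iff]
      intro l hl
      obtain ⟨v, hv, rfl⟩ := hL hl
      have h2 : v ∈ N x ⊓ L.comap (tr S ρ y x) := ⟨hv, hl⟩
      rw [h1, Submodule.mem_bot] at h2
      rw [h2, map_zero]
      exact Submodule.zero_mem _
    · right
      refine le_antisymm hL ?_
      rintro _ ⟨v, hv, rfl⟩
      rw [← h1] at hv
      exact hv.2

/-- stability under all Hecke operators -/
theorem Stb.all (h : Syst S ρ N) (hs : Stb S ρ N) : ∀ n : ℕ, ∀ x y : C, ℓ (Δ.δ y x) = n → ∀ v ∈ N x,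
    tr S ρ y x v ∈ N y := by
  intro n
  induction n using Nat.strong_induction_on with
  | _ n ih =>
    intro x y hn v hv
    by_cases h1 : Δ.δ y x = 1
    · have h2 := Δ.eq_of_δ_eq_one h1
      subst h2
      rw [tr_self S ρ (h.fix _ hv)]
      exact hv
    · obtain ⟨i, hi⟩ := cs.exists_leftDescent_of_ne_one h1
      have hi' : ℓ (cs.simple i * Δ.δ y x) < ℓ (Δ.δ y x) := hi
      obtain ⟨z, hyz, hzx⟩ := exists_first Δ hi'
      have hl : ℓ (Δ.δ y z * Δ.δ z x) = ℓ (Δ.δ y z) + ℓ (Δ.δ z x) := by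
        rw [hyz, hzx, cs.simple_mul_simple_cancel_left, cs.length_simple]
        have := cs.length_simple_mul (Δ.δ y x) i
        omega
      rw [tr_comp S ρ hl (h.fix x hv)]
      exact hs y z i hyz _ (ih _ (by rw [← hn, hzx]; exact hi') x z rfl v hv)

/-- a simple system in a given one -/
theorem exists_smp [FiniteDimensional k V] (hth : Δ.Thick) {Y : C → Submodule k V} (hY : Syst S ρ Y) {c : C}
    (hc : Y c ≠ ⊥) : ∃ N, Smp S ρ N ∧ ∀ x, N x ≤ Y x := by
  classical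
  obtain ⟨L, ⟨hLY, hL0, hL⟩, hmin⟩ := (wellFounded_lt (α := Submodule k V)).has_min
    {L : Submodule k V | L ≤ Y c ∧ L ≠ ⊥ ∧ ∀ g : G, g • c = c → ∀ v ∈ L, ρ g v ∈ L}
    ⟨Y c, le_rfl, hc, fun g hg v hv => by
      have := hY.eqv g c v hv
      rwa [hg] at this⟩
  choose t ht using fun x => ML.LieRow.exists_smul_top S hth c x
  have key : ∀ (g : G) x, g • c = x → L.map (ρ g) = L.map (ρ (t x)) := by
    intro g x hg
    have h1 : ∀ a b : G, a • c = b • c → L.map (ρ a) ≤ L.map (ρ b) := by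
      rintro a b hab _ ⟨v, hv, rfl⟩
      refine ⟨ρ (b⁻¹ * a) v, hL _ (by rw [mul_smul, hab, inv_smul_smul]) v hv, ?_⟩
      rw [← rho_mul, mul_inv_cancel_left]
    exact le_antisymm (h1 _ _ (by rw [hg, ht])) (h1 _ _ (by rw [hg, ht]))
  have hS : Syst S ρ (fun x => L.map (ρ (t x))) := by
    refine ⟨?_, ?_⟩
    · rintro x _ ⟨v, hv, rfl⟩
      have := rho_mem_Vx S ρ (t x) (hY.fix c (hLY hv))
      rwa [ht] at this
    · rintro g x _ ⟨v, hv, rfl⟩
      rw [← key (g * t x) (g • x) (by rw [mul_smul, ht]), ← rho_mul]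
      exact ⟨v, hv, rfl⟩
  refine ⟨fun x => L.map (ρ (t x)), ⟨hS, ?_, ?_⟩, ?_⟩
  · intro x h0
    apply hL0
    rw [eq_bot_iff]
    intro v hv
    have h1 : ρ (t x) v ∈ L.map (ρ (t x)) := ⟨v, hv, rfl⟩
    rw [h0, Submodule.mem_bot] at h1
    rw [Submodule.mem_bot, ← rho_inv_rho ρ (t x) v, h1, map_zero]
  · intro x L' hL' hLi
    have h1 : L'.comap (ρ (t x)) ≤ L := by
      intro v hv
      obtain ⟨w, hw, e⟩ := hL' (hv : ρ (t x) v ∈ L')
      have : v = w := by rw [← rho_inv_rho ρ (t x) v, ← e, rho_inv_rho]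
      rw [this]; exact hw
    by_cases h2 : L'.comap (ρ (t x)) = ⊥
    · left
      rw [eq_bot_iff]
      intro v hv
      have h3 : ρ (t x)⁻¹ v ∈ L'.comap (ρ (t x)) := by
        change ρ (t x) (ρ (t x)⁻¹ v) ∈ L'
        rwa [rho_rho_inv]
      rw [h2, Submodule.mem_bot] at h3
      rw [Submodule.mem_bot, ← rho_rho_inv ρ (t x) v, h3, map_zero]
    · right
      have h3 : L'.comap (ρ (t x)) = L := by
        by_contra hne
        refine hmin _ ⟨h1.trans hLY, h2, ?_⟩ (lt_of_le_of_ne h1 hne)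
        intro g hg v hv
        change ρ (t x) (ρ g v) ∈ L'
        have e : t x * g = t x * g * (t x)⁻¹ * t x := by group
        rw [← rho_mul, e, rho_mul]
        refine hLi _ ?_ _ hv
        rw [mul_smul, mul_smul, inv_smul_eq_iff.2 (ht x).symm, hg, ht]
      refine le_antisymm hL' ?_
      rintro _ ⟨v, hv, rfl⟩
      rw [← h3] at hv
      exact hv
  · rintro x _ ⟨v, hv, rfl⟩
    have := hY.eqv (t x) c v (hLY hv)
    rwa [ht] at this

variable [Fact p.Prime] [CharP k p] (hth : Δ.Thick)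
include hth

/-- **There is a simple stable system in every nonzero stable system.** -/
theorem exists_stb [FiniteDimensional k V] {Y : C → Submodule k V} (hY : Syst S ρ Y) (hYs : Stb S ρ Y) {c : C}
    (hc : Y c ≠ ⊥) : ∃ N, Smp S ρ N ∧ Stb S ρ N ∧ ∀ x, N x ≤ Y x := by
  classical
  obtain ⟨N₀, hN₀, hle⟩ := exists_smp hth hY hc
  have hW : Finite W := Finite.of_surjective (Δ.δ c) (Δ.exists_δ c)
  obtain ⟨w, hw, hmax⟩ := Set.exists_max_image {w : W | Tw S ρ w N₀ c ≠ ⊥} (fun w => ℓ w) (Set.toFinite _) (by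
    refine ⟨1, ?_⟩
    change Tw S ρ 1 N₀ c ≠ ⊥
    rw [Tw_eq hN₀.toSyst (Δ.δ_self c)]
    intro h0
    apply hN₀.ne c
    rw [eq_bot_iff, ← h0]
    intro v hv
    exact ⟨v, hv, tr_self S ρ (hN₀.fix c hv)⟩)
  have hN := hN₀.tw hth hw
  refine ⟨Tw S ρ w N₀, hN, ?_, ?_⟩
  · intro x y i hxy v hv
    have hyx := Δ.δ_symm_simple hxy
    rcases lt_or_gt_of_ne (cs.length_simple_mul_ne w i) with hlt | hgt
    · -- descent
      have hww : cs.simple i * (cs.simple i * w) = w := cs.simple_mul_simple_cancel_left i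
      have hl1 : ℓ (cs.simple i * (cs.simple i * w)) = ℓ (cs.simple i) + ℓ (cs.simple i * w) := by
        rw [hww, cs.length_simple]
        have := cs.length_simple_mul w i
        omega
      -- `N y = tr y x (N' x)`
      obtain ⟨z, hz⟩ := Δ.exists_δ x (cs.simple i * w)
      have hyz : Δ.δ y z = w := by
        have := Δ.δ_mul_of hyx hz hl1
        rwa [hww] at this
      rw [Tw_eq hN₀.toSyst hyz] at hv
      obtain ⟨v, hv, rfl⟩ := hv
      rw [tr_comp S ρ (z := x) (by rw [hyx, hz]; exact hl1) (hN₀.fix z hv)]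
      have h1 : tr S ρ x z v ∈ Tw S ρ (cs.simple i * w) N₀ x := by
        rw [Tw_eq hN₀.toSyst hz]
        exact ⟨v, hv, rfl⟩
      obtain ⟨v', hv', e⟩ := (hN₀.toSyst.tw (cs.simple i * w)).sq hth hxy h1
      rw [← e]
      obtain ⟨z', hz'⟩ := Δ.exists_δ y (cs.simple i * w)
      rw [SetLike.mem_coe, Tw_eq hN₀.toSyst hz'] at hv'
      obtain ⟨v'', hv'', rfl⟩ := hv'
      rw [← tr_comp S ρ (z := y) (by rw [hxy, hz']; exact hl1) (hN₀.fix z' hv'')]
      rw [Tw_eq hN₀.toSyst (x := z') (by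
        have := Δ.δ_mul_of hxy hz' hl1
        rwa [hww] at this)]
      exact ⟨v'', hv'', rfl⟩
    · -- ascent
      have hl1 : ℓ (cs.simple i * w) = ℓ (cs.simple i) + ℓ w := by
        rw [cs.length_simple]
        have := cs.length_simple_mul w i
        omega
      have h0 : Tw S ρ (cs.simple i * w) N₀ x = ⊥ := by
        by_contra hne
        have h1 : Tw S ρ (cs.simple i * w) N₀ c ≠ ⊥ := (hN₀.toSyst.tw _).ne_bot hth hne c
        exact absurd (hmax _ h1) (not_le.2 hgt)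
      obtain ⟨z, hz⟩ := Δ.exists_δ y w
      rw [Tw_eq hN₀.toSyst hz] at hv
      obtain ⟨v, hv, rfl⟩ := hv
      rw [← tr_comp S ρ (z := y) (by rw [hxy, hz]; exact hl1) (hN₀.fix z hv)]
      have h2 : tr S ρ x z v ∈ Tw S ρ (cs.simple i * w) N₀ x := by
        rw [Tw_eq hN₀.toSyst (x := z) (Δ.δ_mul_of hxy hz hl1)]
        exact ⟨v, hv, rfl⟩
      rw [h0, Submodule.mem_bot] at h2
      rw [h2]
      exact Submodule.zero_mem _
  · intro x
    obtain ⟨z, hz⟩ := Δ.exists_δ x w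
    rw [Tw_eq hN₀.toSyst hz]
    rintro _ ⟨v, hv, rfl⟩
    exact hYs.all hY _ z x rfl v (hle z hv)

omit [Fact p.Prime] [CharP k p] in
/-- the sum of `N x` over the opposite chambers -/
theorem Smp.iSup_opp (h : Smp S ρ N) (hs : Stb S ρ N) (hirr : ∀ L : Submodule k V, Ivt ρ ⊤ L → L = ⊥ ∨ L = ⊤)
    (d : C) : (⨆ x : {x // Δ.Opp d x}, N x.1) = ⊤ := by
  have h1 : (⨆ x, N x) = ⊤ := by
    refine (hirr _ ?_).resolve_left ?_
    · intro g _ v hv
      have h2 : (⨆ x, N x) ≤ (⨆ x, N x).comap (ρ g) := by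
        refine iSup_le fun x => ?_
        intro w hw
        exact le_iSup N (g • x) (h.eqv g x w hw)
      exact h2 hv
    · intro h0
      apply h.ne d
      rw [eq_bot_iff, ← h0]
      exact le_iSup N d
  rw [eq_top_iff, ← h1]
  exact iSup_le fun z => h.le_opp hth hs d z

omit [Fact p.Prime] [CharP k p] hth [Fintype C] in
theorem syst_Vx : Syst S ρ (fun x => Vx S ρ x) := ⟨fun _ => le_rfl, fun g _ _ hv => rho_mem_Vx S ρ g hv⟩

omit [Fact p.Prime] [CharP k p] hth in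
theorem stb_Vx : Stb S ρ (fun x => Vx S ρ x) := fun _ _ _ _ _ hv => tr_mem S ρ hv

variable [Finite G] [FiniteDimensional k V] (hirr : ∀ L : Submodule k V, Ivt ρ ⊤ L → L = ⊥ ∨ L = ⊤)
include hirr

/-- a simple stable system is `Vx`; the pairing -/
theorem Smp.eq_Vx (h : Smp S ρ N) (hs : Stb S ρ N) {c d : C} (hcd : Δ.Opp c d) : N c = Vx S ρ c ∧
    ∀ v ∈ Vx S ρ c, v ≠ 0 → ∃ φ ∈ Vx S (dualRep ρ) d, φ v ≠ 0 := by
  have hdc : Δ.Opp d c := by
    change Δ.δ d c = w0 cs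
    rw [Δ.symm c d, show Δ.δ c d = w0 cs from hcd, F.w0_inv]
  have hnt : Nontrivial V := by
    obtain ⟨v, -, hv⟩ := (Submodule.ne_bot_iff _).1 (h.ne c)
    exact nontrivial_of_ne v 0 hv
  have hntd : Nontrivial (Module.Dual k V) := inferInstance
  have hdirr := dual_irr ρ hirr
  -- a simple stable system in the dual
  have h0 : Vx S (dualRep ρ) d ≠ ⊥ := by
    obtain ⟨φ, -, hφ0, hφ⟩ := exists_fixed (dualRep ρ) (S.isP d) (⊤ : Submodule k (Module.Dual k V))
      (fun _ _ _ _ => trivial) top_ne_bot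
    intro h1
    have h2 : φ ∈ Vx S (dualRep ρ) d := hφ
    rw [h1, Submodule.mem_bot] at h2
    exact hφ0 h2
  obtain ⟨N', hN', hs', hle'⟩ := exists_stb (S := S) (ρ := dualRep ρ) hth syst_Vx stb_Vx h0
  have h1 := h.iSup_opp hth hs hirr d
  have h2 := hN'.iSup_opp hth hs' hdirr c
  -- the pairings
  have hk1 : ∀ φ ∈ Vx S (dualRep ρ) d, (∀ v ∈ N c, φ v = 0) → φ = 0 := by
    intro φ hφ hz
    have h3 : (⨆ x : {x // Δ.Opp d x}, N x.1) ≤ LinearMap.ker φ := by
      refine iSup_le fun x => ?_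
      intro v hv
      obtain ⟨u, hu, hux⟩ := S.exists_move (x := d) (z := c) (z' := x.1) (hdc.trans x.2.symm)
      have h4 := h.eqv u⁻¹ x.1 v hv
      rw [← hux, inv_smul_smul] at h4
      have h5 := (mem_fx_dual ρ).1 hφ u hu (ρ u⁻¹ v)
      rw [rho_rho_inv, hz _ h4] at h5
      exact h5
    rw [h1] at h3
    ext v
    exact h3 (Submodule.mem_top (x := v))
  have hk2 : ∀ v ∈ Vx S ρ c, (∀ φ ∈ N' d, φ v = 0) → v = 0 := by
    intro v hv hz
    have h3 : (⨆ x : {x // Δ.Opp c x}, N' x.1) ≤ LinearMap.ker (Module.Dual.eval k V v) := by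
      refine iSup_le fun x => ?_
      intro φ hφ
      obtain ⟨u, hu, hux⟩ := S.exists_move (x := c) (z := d) (z' := x.1) (hcd.trans x.2.symm)
      have h4 := hN'.eqv u⁻¹ x.1 φ hφ
      rw [← hux, inv_smul_smul] at h4
      have h5 := hz _ h4
      rw [dualRep_apply, inv_inv, hv u hu] at h5
      exact h5
    rw [h2] at h3
    exact (Module.forall_dual_apply_eq_zero_iff k v).1 fun φ => h3 (Submodule.mem_top (x := φ))
  let Φ : Vx S (dualRep ρ) d →ₗ[k] Module.Dual k (N c) :=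
    { toFun := fun φ => φ.1.comp (N c).subtype
      map_add' := fun _ _ => rfl
      map_smul' := fun _ _ => rfl }
  have hΦ : Function.Injective Φ := by
    rw [injective_iff_map_eq_zero]
    intro φ hφ
    apply Subtype.ext
    refine hk1 φ.1 φ.2 fun v hv => ?_
    exact congrArg (fun ψ : Module.Dual k (N c) => ψ ⟨v, hv⟩) hφ
  let Ψ : Vx S ρ c →ₗ[k] Module.Dual k (N' d) :=
    { toFun := fun v =>
        { toFun := fun φ => φ.1 v.1
          map_add' := fun _ _ => rfl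
          map_smul' := fun _ _ => rfl }
      map_add' := fun v w => by
        ext φ
        exact map_add φ.1 v.1 w.1
      map_smul' := fun c v => by
        ext φ
        exact map_smul φ.1 c v.1 }
  have hΨ : Function.Injective Ψ := by
    rw [injective_iff_map_eq_zero]
    intro v hv
    apply Subtype.ext
    refine hk2 v.1 v.2 fun φ hφ => ?_
    exact congrArg (fun ψ : Module.Dual k (N' d) => ψ ⟨φ, hφ⟩) hv
  have e1 := LinearMap.finrank_le_finrank_of_injective hΦ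
  have e2 := LinearMap.finrank_le_finrank_of_injective hΨ
  have e1 := e1.trans (Subspace.dual_finrank_eq (K := k) (V := N c)).le
  have e2 := e2.trans (Subspace.dual_finrank_eq (K := k) (V := N' d)).le
  have e3 := Submodule.finrank_mono (hle' d)
  refine ⟨Submodule.eq_of_le_of_finrank_le (h.fix c) (e2.trans (e3.trans e1)), ?_⟩
  intro v hv hv0
  by_contra hcon
  push Not at hcon
  exact hv0 (hk2 v hv fun φ hφ => hcon φ (hle' d hφ))

/-- **Curtis–Richen: `Vx c` is a simple module for the stabiliser of `c`.** -/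
theorem simple_Vx (c : C) {L : Submodule k V} (hL : L ≤ Vx S ρ c) (hLi : ∀ g : G, g • c = c → ∀ v ∈ L, ρ g v ∈ L) :
    L = ⊥ ∨ L = Vx S ρ c := by
  by_cases h0 : Vx S ρ c = ⊥
  · left
    rw [eq_bot_iff, ← h0]
    exact hL
  obtain ⟨N, hN, hs, -⟩ := exists_stb (S := S) (ρ := ρ) hth syst_Vx stb_Vx h0
  obtain ⟨d, hcd⟩ := Δ.exists_δ c (w0 cs)
  obtain ⟨h1, -⟩ := hN.eq_Vx hth hirr hs (c := c) (d := d) hcd
  rw [← h1] at hL ⊢
  exact hN.simple c L hL hLi

end Cfsg.Agent.Omega.CR.Bl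

end
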